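import Groth.Agent.SymPow92.Surj
import Mathlib.CategoryTheory.Limits.Shapes.WidePullbacks

/-!
# A finite surjective morphism `(P^1)^n ⟶ P^n` over any base
-/

set_option autoImplicit false
set_option backward.isDefEq.respectTransparency false
set_option backward.isDefEq.respectTransparency.types false

universe u

open AlgebraicGeometry HomogeneousLocalization CategoryTheory CategoryTheory.Limits MvPolynomial

namespace Groth.Agent.SymPow92

open Groth.Agent.ProjPt Groth.Agent.SegreX

theorem isIso_cst_zero : IsIso (CommRingCat.ofHom (cst.{u} 0) :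
    CommRingCat.of (ULift.{u} ℤ) ⟶ chartRing.{u} 0 0) := by
  have hX : eval₂Hom (RingHom.id (ULift.{u} ℤ)) (fun _ : Fin (0 + 1) => (1 : ULift.{u} ℤ)) (X 0) = 1 := by
    rw [eval₂Hom_X']
  let g : chartRing.{u} 0 0 ⟶ CommRingCat.of (ULift.{u} ℤ) :=
    CommRingCat.ofHom (coordHom (CohB1.polyGrading 0 (ULift.{u} ℤ)) (eval₂Hom (RingHom.id _) fun _ => 1)
      (t := X 0) (by rw [hX]; exact isUnit_one))
  refine ⟨g, CommRingCat.hom_ext ((z0_eq _).trans (z0_eq _).symm), ?_⟩
  apply CommRingCat.hom_ext
  refine away_ext _ _ _ ((z0_eq _).trans (z0_eq _).symm) fun k => ?_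
  obtain rfl : k = 0 := Fin.fin_one_eq_zero k
  show cst 0 (g.hom (crd 0 0)) = crd 0 0
  have hg : g.hom (crd 0 0) = 1 := by
    show coordHom _ _ _ (crd 0 0) = 1
    rw [coordHom_crd _ _ _ hX, hX]
  rw [hg, map_one, crd_self]

theorem isIso_from_PZ_zero : IsIso (specULiftZIsTerminal.from (PZ.{u} 0)) := by
  haveI : Surjective (chart.{u} 0 0) := ⟨fun z => by
    obtain ⟨i, hi⟩ := exists_mem_chart z
    obtain rfl : i = 0 := Fin.fin_one_eq_zero i
    exact hi⟩
  haveI : Epi (chart.{u} 0 0).base := (TopCat.epi_iff_surjective _).mpr (Scheme.Hom.surjective _)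
  haveI : IsIso (chart.{u} 0 0) := IsOpenImmersion.isIso _
  haveI := isIso_cst_zero.{u}
  haveI : IsIso (chart.{u} 0 0 ≫ specULiftZIsTerminal.from (PZ.{u} 0)) := by
    rw [specULiftZIsTerminal.hom_ext (chart.{u} 0 0 ≫ specULiftZIsTerminal.from (PZ.{u} 0))
      (Spec.map (CommRingCat.ofHom (cst.{u} 0) : CommRingCat.of (ULift.{u} ℤ) ⟶ chartRing.{u} 0 0))]
    infer_instance
  exact IsIso.of_isIso_comp_left (chart.{u} 0 0) _

variable (S : Scheme.{u})

theorem isIso_toBase_zero : IsIso (CohB1.ProjSpaceOver.toBase 0 S) := by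
  haveI : IsIso (CohB1.ProjSpace.toSpec 0 (ULift.{u} ℤ)) := by
    rw [specULiftZIsTerminal.hom_ext (CohB1.ProjSpace.toSpec 0 (ULift.{u} ℤ))
      (specULiftZIsTerminal.from (PZ.{u} 0))]
    exact isIso_from_PZ_zero
  exact inferInstanceAs (IsIso (pullback.snd (CohB1.ProjSpace.toSpec 0 (ULift.{u} ℤ))
    (specULiftZIsTerminal.from S)))

/-- The product of a line and a space over `S`. -/
noncomputable abbrev PPS (n : ℕ) : Scheme.{u} :=
  pullback (CohB1.ProjSpaceOver.toBase 1 S) (CohB1.ProjSpaceOver.toBase n S)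

/-- The two descriptions of the product. -/
noncomputable def ppsIso (n : ℕ) :
    PPS S n ≅ pullback (specULiftZIsTerminal.from (PP.{u} 1 n)) (specULiftZIsTerminal.from S) where
  hom := pullback.lift
    (pullback.lift (pullback.fst _ _ ≫ pullback.fst _ _) (pullback.snd _ _ ≫ pullback.fst _ _)
      (specULiftZIsTerminal.hom_ext _ _))
    (pullback.fst _ _ ≫ CohB1.ProjSpaceOver.toBase 1 S) (specULiftZIsTerminal.hom_ext _ _)
  inv := pullback.lift
    (pullback.lift (pullback.fst _ _ ≫ pullback.fst _ _) (pullback.snd _ _) (specULiftZIsTerminal.hom_ext _ _))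
    (pullback.lift (pullback.fst _ _ ≫ pullback.snd _ _) (pullback.snd _ _) (specULiftZIsTerminal.hom_ext _ _))
    (by simp [CohB1.ProjSpaceOver.toBase])
  hom_inv_id := by
    apply pullback.hom_ext <;> apply pullback.hom_ext <;>
      simp [CohB1.ProjSpaceOver.toBase, pullback.condition]
  inv_hom_id := by
    apply pullback.hom_ext
    · apply pullback.hom_ext <;> simp
    · simp [CohB1.ProjSpaceOver.toBase]

/-- The multiplication morphism over `S`. -/
noncomputable def multS (n : ℕ) : PPS S n ⟶ CohB1.ProjSpaceOver (n + 1) S :=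
  (ppsIso S n).hom ≫
    pullback.map (specULiftZIsTerminal.from (PP.{u} 1 n)) (specULiftZIsTerminal.from S)
      (CohB1.ProjSpace.toSpec (n + 1) (ULift.{u} ℤ)) (specULiftZIsTerminal.from S) mult (𝟙 S) (𝟙 _)
      (specULiftZIsTerminal.hom_ext _ _) (by simp)

theorem multS_toBase (n : ℕ) : multS S n ≫ CohB1.ProjSpaceOver.toBase (n + 1) S =
    pullback.fst _ _ ≫ CohB1.ProjSpaceOver.toBase 1 S := by
  simp [multS, ppsIso, CohB1.ProjSpaceOver.toBase]

theorem isFinite_and_surjective_multS (n : ℕ) : IsFinite (multS S n) ∧ Surjective (multS S n) := by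
  haveI := isFinite_mult.{u} (n := n)
  haveI := surjective_mult.{u} (n := n)
  constructor
  · exact MorphismProperty.comp_mem @IsFinite _ _ inferInstance
      (MorphismProperty.pullbackMap (P := @IsFinite) (isFinite_mult.{u} (n := n)) inferInstance
        (specULiftZIsTerminal.hom_ext _ _) (Category.id_comp _).symm)
  · exact MorphismProperty.comp_mem @Surjective _ _ inferInstance
      (MorphismProperty.pullbackMap (P := @Surjective) (surjective_mult.{u} (n := n)) inferInstance
        (specULiftZIsTerminal.hom_ext _ _) (Category.id_comp _).symm)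

/-- The product of `n` lines over `S`. -/
noncomputable abbrev W (n : ℕ) : Scheme.{u} :=
  widePullback S (fun _ : Fin n => CohB1.ProjSpaceOver 1 S) (fun _ => CohB1.ProjSpaceOver.toBase 1 S)

/-- The structure morphism of the product of lines. -/
noncomputable abbrev wBase (n : ℕ) : W S n ⟶ S :=
  WidePullback.base (fun _ : Fin n => CohB1.ProjSpaceOver.toBase 1 S)

/-- Splitting off the first factor. -/
noncomputable def splitIso (n : ℕ) :
    W S (n + 1) ≅ pullback (CohB1.ProjSpaceOver.toBase 1 S) (wBase S n) where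
  hom := pullback.lift (WidePullback.π _ 0)
    (WidePullback.lift (wBase S (n + 1)) (fun i => WidePullback.π _ i.succ) (fun i => WidePullback.π_arrow _ _))
    (by simp)
  inv := WidePullback.lift (pullback.fst _ _ ≫ CohB1.ProjSpaceOver.toBase 1 S)
    (Fin.cons (α := fun _ => pullback (CohB1.ProjSpaceOver.toBase 1 S) (wBase S n) ⟶ CohB1.ProjSpaceOver 1 S)
      (pullback.fst _ _) (fun i => pullback.snd _ _ ≫ WidePullback.π _ i))
    (fun i => by
      induction i using Fin.cases with
      | zero => rfl
      | succ i => simp [pullback.condition])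
  hom_inv_id := by
    refine WidePullback.hom_ext _ _ _ (fun i => ?_) ?_
    · induction i using Fin.cases with
      | zero => simp
      | succ i => simp
    · simp
  inv_hom_id := by
    apply pullback.hom_ext
    · simp
    · refine WidePullback.hom_ext _ _ _ (fun i => ?_) ?_
      · simp
      · simp [pullback.condition]

theorem exists_finite_surjective (n : ℕ) :
    ∃ φ : W S n ⟶ CohB1.ProjSpaceOver n S,
      IsFinite φ ∧ Surjective φ ∧ φ ≫ CohB1.ProjSpaceOver.toBase n S = wBase S n := by
  induction n with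
  | zero =>
    haveI := isIso_toBase_zero S
    haveI : IsIso (wBase S 0) := ⟨WidePullback.lift (𝟙 S) Fin.elim0 (fun i => i.elim0),
      WidePullback.hom_ext _ _ _ (fun i => i.elim0) (by simp), by simp⟩
    exact ⟨wBase S 0 ≫ inv (CohB1.ProjSpaceOver.toBase 0 S), inferInstance, inferInstance, by simp⟩
  | succ n ih =>
    obtain ⟨φ, hfin, hsurj, hφ⟩ := ih
    obtain ⟨h1, h2⟩ := isFinite_and_surjective_multS S n
    let m : pullback (CohB1.ProjSpaceOver.toBase 1 S) (wBase S n) ⟶ PPS S n :=
      pullback.map _ _ _ _ (𝟙 _) φ (𝟙 S) (by simp) (by simp [hφ])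
    have hm : IsFinite m ∧ Surjective m :=
      ⟨MorphismProperty.pullbackMap (P := @IsFinite) inferInstance hfin (Category.id_comp _).symm hφ.symm,
        MorphismProperty.pullbackMap (P := @Surjective) inferInstance hsurj (Category.id_comp _).symm hφ.symm⟩
    haveI := hm.1
    haveI := hm.2
    refine ⟨(splitIso S n).hom ≫ m ≫ multS S n, inferInstance, inferInstance, ?_⟩
    rw [Category.assoc, Category.assoc, multS_toBase]
    simp [m, splitIso]

end Groth.Agent.SymPow92
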