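import Groth.Agent.SegreX.Basic
import Groth.Agent.VarNef31.ProperBase
import Mathlib.AlgebraicGeometry.Morphisms.Proper

/-!
# Multiplication of a linear form with a binary form, as a morphism `P^1 × P^n ⟶ P^{n+1}`
-/

set_option autoImplicit false
set_option backward.isDefEq.respectTransparency false
set_option backward.isDefEq.respectTransparency.types false

universe u

open AlgebraicGeometry HomogeneousLocalization CategoryTheory CategoryTheory.Limits MvPolynomial

namespace Groth.Agent.SymPow92

open Groth.Agent.ProjPt Groth.Agent.SegreX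

variable {R S : Type*} [CommRing R] [CommRing S] {n : ℕ}

/-- The coefficients of a product, as a linear expression in the products of coefficients. -/
def mulM (z : Fin 2 → Fin (n + 1) → R) (k : Fin (n + 2)) : R :=
  Fin.snoc (α := fun _ => R) (z 0) 0 k + Fin.cons (α := fun _ => R) 0 (z 1) k

/-- The coefficients of the product of a linear form with a form. -/
def mulC (x : Fin 2 → R) (a : Fin (n + 1) → R) : Fin (n + 2) → R := mulM fun b l => x b * a l

theorem map_mulM (φ : R →+* S) (z : Fin 2 → Fin (n + 1) → R) (k : Fin (n + 2)) :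
    φ (mulM z k) = mulM (fun b l => φ (z b l)) k := by
  rw [mulM, mulM, map_add]
  congr 1
  · induction k using Fin.lastCases with
    | last => simp
    | cast i => simp
  · induction k using Fin.cases with
    | zero => simp
    | succ i => simp

theorem map_mulC (φ : R →+* S) (x : Fin 2 → R) (a : Fin (n + 1) → R) (k : Fin (n + 2)) :
    φ (mulC x a k) = mulC (fun b => φ (x b)) (fun l => φ (a l)) k := by
  rw [mulC, map_mulM]
  simp only [map_mul, mulC]

theorem mulC_scale (x : Fin 2 → R) (a : Fin (n + 1) → R) (γ δ : R) (k : Fin (n + 2)) :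
    mulC (fun b => γ * x b) (fun l => δ * a l) k = γ * δ * mulC x a k := by
  simp only [mulC, mulM]
  rw [mul_add]
  congr 1
  · induction k using Fin.lastCases with
    | last => simp
    | cast i => simp only [Fin.snoc_castSucc]; ring
  · induction k using Fin.cases with
    | zero => simp
    | succ i => simp only [Fin.cons_succ]; ring

theorem mulC_eq_zero {K : Type*} [Field K] {x : Fin 2 → K} {a : Fin (n + 1) → K}
    (h : ∀ k, mulC x a k = 0) (hx : ∃ i, x i ≠ 0) : ∀ l, a l = 0 := by
  by_cases h0 : x 0 = 0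
  · have h1 : x 1 ≠ 0 := by
      obtain ⟨i, hi⟩ := hx
      fin_cases i
      · exact absurd h0 hi
      · exact hi
    intro l
    have := h l.succ
    simp only [mulC, mulM, h0, zero_mul, Fin.cons_succ] at this
    have hz : (Fin.snoc (α := fun _ => K) (fun _ : Fin (n + 1) => (0 : K)) 0) l.succ = 0 := by
      induction (l.succ) using Fin.lastCases with
      | last => simp
      | cast i => simp
    rw [hz, zero_add] at this
    exact (mul_eq_zero.mp this).resolve_left h1
  · intro l
    induction l using Fin.induction with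
    | zero =>
      have := h 0
      simp only [mulC, mulM, Fin.cons_zero, add_zero] at this
      rw [show (0 : Fin (n + 2)) = Fin.castSucc 0 from rfl, Fin.snoc_castSucc] at this
      exact (mul_eq_zero.mp this).resolve_left h0
    | succ l ih =>
      have := h l.succ.castSucc
      simp only [mulC, mulM, Fin.snoc_castSucc] at this
      rw [← Fin.succ_castSucc, Fin.cons_succ, ih, mul_zero, add_zero] at this
      exact (mul_eq_zero.mp this).resolve_left h0

theorem exists_isUnit_mulC {L : Type*} [CommRing L] [IsLocalRing L] (x : Fin 2 → L)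
    (a : Fin (n + 1) → L) {i : Fin 2} {j : Fin (n + 1)} (hi : x i = 1) (hj : a j = 1) :
    ∃ k, IsUnit (mulC x a k) := by
  by_contra! h
  have h0 : ∀ k, mulC (fun b => IsLocalRing.residue L (x b)) (fun l => IsLocalRing.residue L (a l)) k = 0 :=
    fun k => by rw [← map_mulC, IsLocalRing.residue_eq_zero_iff]; exact h k
  have := mulC_eq_zero h0 ⟨i, by simp [hi]⟩ j
  simp [hj] at this

variable (n)

/-- The bijection used for the Segre embedding of `P^1 × P^n`. -/
def pairEquiv : Fin (1 * n + 1 + n + 1) ≃ Fin (1 + 1) × Fin (n + 1) :=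
  (finCongr (by ring)).trans finProdFinEquiv.symm

variable {n}

/-- The product chart. -/
noncomputable abbrev prodChart (ij : Fin (1 + 1) × Fin (n + 1)) : Scheme.{u} :=
  pullback (specULiftZIsTerminal.from (Spec (chartRing.{u} 1 ij.1)))
    (specULiftZIsTerminal.from (Spec (chartRing.{u} n ij.2)))

/-- The coordinates of the product on a product chart. -/
noncomputable def cfun (ij : Fin (1 + 1) × Fin (n + 1)) : Fin (n + 2) → Γ(prodChart.{u} ij, ⊤) :=
  mulC (coords (pullback.fst _ _)) (coords (pullback.snd _ _))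

/-- The index type of the refined cover. -/
abbrev RIdx (n : ℕ) : Type u := ULift.{u} ((Fin (1 + 1) × Fin (n + 1)) × Fin (n + 2))

/-- A member of the refined cover. -/
noncomputable abbrev piece (a : RIdx.{u} n) : (prodChart.{u} a.down.1).Opens :=
  (prodChart a.down.1).basicOpen (cfun a.down.1 a.down.2)

/-- The inclusion of a member of the refined cover. -/
noncomputable abbrev pieceMap (a : RIdx.{u} n) : (piece a).toScheme ⟶ PP.{u} 1 n :=
  (piece a).ι ≫ chart2 a.down.1

/-- The refined cover. -/
noncomputable def mcover : (PP.{u} 1 n).OpenCover where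
  I₀ := RIdx.{u} n
  X a := (piece a).toScheme
  f a := pieceMap a
  mem₀ := by
    haveI : ∀ a : RIdx.{u} n, IsOpenImmersion (pieceMap a) := fun a => by
      haveI := isOpenImmersion_chart2.{u} a.down.1
      exact IsOpenImmersion.comp _ _
    rw [Scheme.ofArrows_mem_precoverage_iff]
    refine ⟨fun z ↦ ?_, fun a ↦ inferInstance⟩
    obtain ⟨⟨ij⟩, w, rfl⟩ := (SegreX.cover (n := 1) (m := n)).exists_eq z
    let germ := ((prodChart ij).presheaf.germ ⊤ w trivial).hom
    obtain ⟨k, hk⟩ := exists_isUnit_mulC (fun b => germ (coords (pullback.fst _ _) b))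
      (fun l => germ (coords (pullback.snd _ _) l)) (i := ij.1) (j := ij.2)
      (by rw [coords_self, map_one]) (by rw [coords_self, map_one])
    rw [← map_mulC] at hk
    exact ⟨⟨(ij, k)⟩, ⟨w, ((prodChart ij).mem_basicOpen_top _ _).mpr hk⟩, rfl⟩

theorem isUnit_restrict_basicOpen {W : Scheme.{u}} (f : Γ(W, ⊤)) :
    IsUnit ((W.basicOpen f).ι.appTop f) := by
  refine (W.basicOpen f).toScheme.toRingedSpace.isUnit_of_isUnit_germ _ _ fun x hx => ?_
  refine ((W.basicOpen f).toScheme.mem_basicOpen_top _ x).mp ?_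
  rw [← Scheme.preimage_basicOpen_top]
  exact x.2

theorem cfun_restrict {T : Scheme.{u}} (ij : Fin (1 + 1) × Fin (n + 1)) (g : T ⟶ prodChart.{u} ij)
    (k : Fin (n + 2)) :
    g.appTop (cfun ij k) = mulC (coords (g ≫ pullback.fst _ _)) (coords (g ≫ pullback.snd _ _)) k := by
  rw [cfun, map_mulC]
  rfl

/-- The map on a member of the refined cover. -/
noncomputable def mloc (a : RIdx.{u} n) : (piece a).toScheme ⟶ PZ.{u} (n + 1) :=
  ptS (fun l => (piece a).ι.appTop (cfun a.down.1 l)) a.down.2 (isUnit_restrict_basicOpen _)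

theorem mloc_compat {T : Scheme.{u}} (a b : RIdx.{u} n) (f : T ⟶ (piece a).toScheme)
    (g : T ⟶ (piece b).toScheme) (h : f ≫ pieceMap a = g ≫ pieceMap b) : f ≫ mloc a = g ≫ mloc b := by
  have h1 := h =≫ pullback.fst _ _
  have h2 := h =≫ pullback.snd _ _
  simp only [Category.assoc, pullback.lift_fst, pullback.lift_snd] at h1 h2
  obtain ⟨γ, -, hγ⟩ := exists_unit_coords (f ≫ (piece a).ι ≫ pullback.fst _ _)
    (g ≫ (piece b).ι ≫ pullback.fst _ _) (by simpa only [Category.assoc] using h1)
  obtain ⟨δ, -, hδ⟩ := exists_unit_coords (f ≫ (piece a).ι ≫ pullback.snd _ _)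
    (g ≫ (piece b).ι ≫ pullback.snd _ _) (by simpa only [Category.assoc] using h2)
  rw [mloc, mloc, comp_ptS, comp_ptS]
  refine (ptS_scale _ _ (γ * δ) (fun k => ?_) _ _ _ _).symm
  rw [← ConcreteCategory.comp_apply, ← ConcreteCategory.comp_apply, ← Scheme.Hom.comp_appTop,
    ← Scheme.Hom.comp_appTop, cfun_restrict, cfun_restrict, Category.assoc, Category.assoc,
    Category.assoc, Category.assoc, funext hγ, funext hδ, mulC_scale]

/-- The multiplication morphism. -/
noncomputable def mult : PP.{u} 1 n ⟶ PZ.{u} (n + 1) :=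
  mcover.glueMorphisms mloc fun a b => mloc_compat a b _ _ pullback.condition

theorem pieceMap_mult (a : RIdx.{u} n) : pieceMap a ≫ mult = mloc a :=
  Scheme.Cover.ι_glueMorphisms mcover _ _ a

/-- The linear form whose non-vanishing is the preimage of a coordinate chart. -/
noncomputable def ell (n : ℕ) (k : Fin (n + 2)) : MvPolynomial (Fin (1 * n + 1 + n + 1)) (ULift.{u} ℤ) :=
  mulM (fun b l => X ((pairEquiv n).symm (b, l))) k

theorem ell_mem (n : ℕ) (k : Fin (n + 2)) :
    ell.{u} n k ∈ CohB1.polyGrading (1 * n + 1 + n) (ULift.{u} ℤ) 1 := by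
  rw [ell, mulM]
  refine add_mem ?_ ?_
  · induction k using Fin.lastCases with
    | last => simp
    | cast i => simp only [Fin.snoc_castSucc]; exact X_mem _
  · induction k using Fin.cases with
    | zero => simp
    | succ i => simp only [Fin.cons_succ]; exact X_mem _

theorem segre_preimage_ell (ij : Fin (1 + 1) × Fin (n + 1)) (k : Fin (n + 2)) :
    chart2.{u} ij ⁻¹ᵁ segre (pairEquiv n) ⁻¹ᵁ Proj.basicOpen _ (ell n k) =
      (prodChart ij).basicOpen (cfun ij k) := by
  rw [← Scheme.Hom.comp_preimage, chart2_segre]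
  refine (pt_preimage_basicOpen (CohB1.polyGrading (1 * n + 1 + n) (ULift.{u} ℤ)) _ (X_mem _) one_pos _
    (ell_mem n k) one_pos).trans ?_
  congr 1
  rw [ell, map_mulM]
  show mulM _ k = mulC _ _ k
  simp only [eval₂Hom_X', prodCoords, Equiv.apply_symm_apply]
  rfl

theorem mult_preimage (k : Fin (n + 2)) :
    mult.{u} ⁻¹ᵁ Proj.basicOpen (CohB1.polyGrading (n + 1) (ULift.{u} ℤ)) (X k) =
      segre (pairEquiv n) ⁻¹ᵁ Proj.basicOpen _ (ell n k) := by
  ext z
  obtain ⟨a, w, rfl⟩ := mcover.exists_eq z
  show w ∈ pieceMap a ⁻¹ᵁ mult ⁻¹ᵁ Proj.basicOpen (CohB1.polyGrading (n + 1) (ULift.{u} ℤ)) (X k) ↔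
    w ∈ (piece a).ι ⁻¹ᵁ chart2 a.down.1 ⁻¹ᵁ segre (pairEquiv n) ⁻¹ᵁ Proj.basicOpen _ (ell n k)
  rw [segre_preimage_ell, ← Scheme.Hom.comp_preimage, pieceMap_mult]
  erw [ptS_preimage, Scheme.preimage_basicOpen_top]

theorem isAffineHom_mult : IsAffineHom (mult.{u} (n := n)) := by
  haveI := isClosedImmersion_segre.{u} (pairEquiv n)
  refine isAffineHom_of_forall_exists_isAffineOpen _ fun x => ?_
  obtain ⟨k, hk⟩ := exists_mem_chart x
  refine ⟨Proj.basicOpen (CohB1.polyGrading (n + 1) (ULift.{u} ℤ)) (X k), (range_chart _ k).le hk,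
    Proj.isAffineOpen_basicOpen _ _ (X_mem k) one_pos, ?_⟩
  rw [mult_preimage]
  exact (Proj.isAffineOpen_basicOpen _ _ (ell_mem n k) one_pos).preimage _

theorem isProper_from_PZ (n : ℕ) : IsProper (specULiftZIsTerminal.from (PZ.{u} n)) := by
  haveI := PnCoh.Chow.isProper_toSpec n (ULift.{u} ℤ)
  rw [specULiftZIsTerminal.hom_ext (specULiftZIsTerminal.from (PZ.{u} n)) (CohB1.ProjSpace.toSpec n (ULift.{u} ℤ))]
  infer_instance

theorem isFinite_mult : IsFinite (mult.{u} (n := n)) := by
  haveI := isProper_from_PZ.{u} 1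
  haveI := isProper_from_PZ.{u} n
  haveI := isProper_from_PZ.{u} (n + 1)
  haveI : IsProper (mult.{u} (n := n) ≫ specULiftZIsTerminal.from _) := by
    rw [specULiftZIsTerminal.hom_ext (mult ≫ specULiftZIsTerminal.from _)
      (pullback.fst (specULiftZIsTerminal.from (PZ.{u} 1)) (specULiftZIsTerminal.from (PZ.{u} n)) ≫
        specULiftZIsTerminal.from _)]
    infer_instance
  haveI : IsProper (mult.{u} (n := n)) := IsProper.of_comp _ (specULiftZIsTerminal.from _)
  exact IsFinite.iff_isProper_and_isAffineHom.mpr ⟨inferInstance, isAffineHom_mult⟩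

end Groth.Agent.SymPow92
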