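import Groth.Agent.SymPow92.Mult
import Mathlib.FieldTheory.IsAlgClosed.AlgebraicClosure

/-!
# The multiplication morphism `P^1 × P^n ⟶ P^{n+1}` is surjective
-/

set_option autoImplicit false
set_option backward.isDefEq.respectTransparency false
set_option backward.isDefEq.respectTransparency.types false

universe u

open AlgebraicGeometry HomogeneousLocalization CategoryTheory CategoryTheory.Limits MvPolynomial

namespace Groth.Agent.SymPow92

open Groth.Agent.ProjPt Groth.Agent.SegreX

variable {n : ℕ}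

theorem exists_mulC_eq {K : Type*} [Field K] [IsAlgClosed K] (v : Fin (n + 2) → K) (hv : ∃ k, v k ≠ 0) :
    ∃ (x : Fin 2 → K) (a : Fin (n + 1) → K), (∃ i, x i ≠ 0) ∧ (∃ j, a j ≠ 0) ∧ ∀ k, mulC x a k = v k := by
  suffices H : ∃ (x : Fin 2 → K) (a : Fin (n + 1) → K), (∃ i, x i ≠ 0) ∧ ∀ k, mulC x a k = v k by
    obtain ⟨x, a, hx, h⟩ := H
    refine ⟨x, a, hx, ?_, h⟩
    by_contra! ha
    obtain ⟨k, hk⟩ := hv
    refine hk (h k ▸ ?_)
    simp only [mulC, mulM, ha, mul_zero]
    induction k using Fin.lastCases with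
    | last =>
      simp only [Fin.snoc_last, zero_add]
      rw [← Fin.succ_last, Fin.cons_succ]
    | cast i =>
      simp only [Fin.snoc_castSucc, zero_add]
      induction (Fin.castSucc i) using Fin.cases with
      | zero => simp
      | succ j => simp
  by_cases hlast : v (Fin.last _) = 0
  · refine ⟨![1, 0], fun l => v l.castSucc, ⟨0, by simp⟩, fun k => ?_⟩
    simp only [mulC, mulM]
    have h0 : (Fin.cons (α := fun _ => K) 0 (fun l : Fin (n + 1) => (![1, 0] : Fin 2 → K) 1 * v l.castSucc)) k = 0 := by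
      induction k using Fin.cases with
      | zero => simp
      | succ j => simp
    rw [h0, add_zero]
    induction k using Fin.lastCases with
    | last => simp [hlast]
    | cast i => simp
  · let P : Polynomial K := ∑ k : Fin (n + 2), Polynomial.monomial (k : ℕ) (v k)
    have hP : ∀ k : Fin (n + 2), P.coeff k = v k := fun k => by
      rw [Polynomial.finsetSum_coeff, Finset.sum_eq_single k]
      · simp
      · intro b _ hb
        rw [Polynomial.coeff_monomial, if_neg (fun h => hb (Fin.ext h))]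
      · simp
    have hP' : ∀ m, n + 2 ≤ m → P.coeff m = 0 := fun m hm => by
      rw [Polynomial.finsetSum_coeff]
      refine Finset.sum_eq_zero fun b _ => ?_
      rw [Polynomial.coeff_monomial, if_neg (by omega)]
    have hdeg : P.natDegree = n + 1 := by
      refine le_antisymm (Polynomial.natDegree_le_iff_coeff_eq_zero.mpr fun m hm => hP' m (by omega)) ?_
      refine Polynomial.le_natDegree_of_ne_zero ?_
      rw [show n + 1 = ((Fin.last (n + 1) : Fin (n + 2)) : ℕ) from rfl, hP]
      exact hlast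
    obtain ⟨r, hr⟩ := IsAlgClosed.exists_root P (fun h => by
      have h0 : P.natDegree = 0 := Polynomial.natDegree_eq_zero_iff_degree_le_zero.mpr h.le
      omega)
    let Q := P /ₘ (Polynomial.X - Polynomial.C r)
    have hQ : (Polynomial.X - Polynomial.C r) * Q = P := Polynomial.mul_divByMonic_eq_iff_isRoot.mpr hr
    have hQn : Q.coeff (n + 1) = 0 := by
      refine Polynomial.coeff_eq_zero_of_natDegree_lt ?_
      rw [Polynomial.natDegree_divByMonic _ (Polynomial.monic_X_sub_C r), hdeg, Polynomial.natDegree_X_sub_C]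
      omega
    refine ⟨![-r, 1], fun l => Q.coeff l, ⟨1, by simp⟩, fun k => ?_⟩
    rw [← hP k, ← hQ, sub_mul, Polynomial.coeff_sub, Polynomial.coeff_C_mul]
    simp only [mulC, mulM]
    have h1 : (Fin.snoc (α := fun _ => K) (fun l : Fin (n + 1) => (![-r, 1] : Fin 2 → K) 0 * Q.coeff l) 0) k =
        -(r * Q.coeff k) := by
      induction k using Fin.lastCases with
      | last => simp [hQn]
      | cast i => simp
    have h2 : (Fin.cons (α := fun _ => K) 0 (fun l : Fin (n + 1) => (![-r, 1] : Fin 2 → K) 1 * Q.coeff l)) k =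
        (Polynomial.X * Q).coeff k := by
      induction k using Fin.cases with
      | zero => simp
      | succ j => simp
    rw [h1, h2]
    ring

variable {K : Type u} [Field K] {m : ℕ}

/-- The point of a chart with given coordinates. -/
noncomputable def chartPt (s : Fin (m + 1) → K) (i : Fin (m + 1)) (hs : s i = 1) :
    Spec (CommRingCat.of K) ⟶ Spec (chartRing.{u} m i) :=
  Spec.map (CommRingCat.ofHom (coordHom (CohB1.polyGrading m (ULift.{u} ℤ)) (eval₂Hom (z0 K) s)
    (t := X i) (by rw [eval₂Hom_X', hs]; exact isUnit_one)))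

theorem coords_chartPt (s : Fin (m + 1) → K) (i : Fin (m + 1)) (hs : s i = 1) (b : Fin (m + 1)) :
    coords (chartPt s i hs) b = (Scheme.ΓSpecIso (CommRingCat.of K)).inv.hom (s b) := by
  rw [coords, chartPt, ← Scheme.ΓSpecIso_inv_naturality]
  show (Scheme.ΓSpecIso (CommRingCat.of K)).inv.hom (coordHom _ _ _ (crd i b)) = _
  rw [coordHom_crd _ _ _ (by rw [eval₂Hom_X', hs]), eval₂Hom_X']

theorem surjective_mult : Surjective (mult.{u} (n := n)) := by
  refine ⟨fun z => ?_⟩
  obtain ⟨k₀, y, rfl⟩ := exists_mem_chart z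
  let κ := (Spec (chartRing.{u} (n + 1) k₀)).residueField y
  let L := CommRingCat.of (AlgebraicClosure κ)
  let q : Spec L ⟶ Spec (chartRing.{u} (n + 1) k₀) :=
    Spec.map (CommRingCat.ofHom (algebraMap κ (AlgebraicClosure κ))) ≫
      (Spec (chartRing.{u} (n + 1) k₀)).fromSpecResidueField y
  obtain ⟨pt₀⟩ : Nonempty (Spec L) := inferInstanceAs (Nonempty (PrimeSpectrum (AlgebraicClosure κ)))
  have hqy : q pt₀ = y := Scheme.fromSpecResidueField_apply y _
  let e := Scheme.ΓSpecIso L
  let v : Fin (n + 2) → AlgebraicClosure κ := fun k => e.hom.hom (coords q k)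
  have hv1 : v k₀ = 1 := by simp only [v]; rw [coords_self, map_one]
  obtain ⟨x, a, ⟨i, hi⟩, ⟨j, hj⟩, hxa⟩ := exists_mulC_eq v ⟨k₀, by rw [hv1]; exact one_ne_zero⟩
  let x' : Fin (1 + 1) → AlgebraicClosure κ := fun b => (x i)⁻¹ * x b
  let a' : Fin (n + 1) → AlgebraicClosure κ := fun l => (a j)⁻¹ * a l
  have hx' : x' i = 1 := inv_mul_cancel₀ hi
  have ha' : a' j = 1 := inv_mul_cancel₀ hj
  let ρ : AlgebraicClosure κ →+* Γ(Spec L, ⊤) := e.inv.hom
  let h : Spec L ⟶ prodChart.{u} (n := n) (i, j) :=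
    pullback.lift (chartPt x' i hx') (chartPt a' j ha') (specULiftZIsTerminal.hom_ext _ _)
  have hc : ∀ k, h.appTop (cfun (i, j) k) = ρ ((x i)⁻¹ * (a j)⁻¹) * coords q k := fun k => by
    rw [cfun_restrict, pullback.lift_fst, pullback.lift_snd, funext (coords_chartPt x' i hx'),
      funext (coords_chartPt a' j ha'), ← map_mulC]
    show ρ (mulC x' a' k) = _
    rw [mulC_scale, hxa, map_mul]
    congr 1
    exact e.hom_inv_id_apply (coords q k)
  have hu : IsUnit (h.appTop (cfun (i, j) k₀)) := by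
    rw [hc, coords_self, mul_one]
    exact ((mul_ne_zero (inv_ne_zero hi) (inv_ne_zero hj)).isUnit).map ρ
  let α : RIdx.{u} n := ⟨((i, j), k₀)⟩
  have hrange : Set.range h ⊆ Set.range (piece α).ι := by
    rintro _ ⟨w, rfl⟩
    rw [Scheme.Opens.range_ι]
    show w ∈ h ⁻¹ᵁ (prodChart (i, j)).basicOpen (cfun (i, j) k₀)
    rw [Scheme.preimage_basicOpen_top, Scheme.basicOpen_of_isUnit _ hu]
    trivial
  let h' := IsOpenImmersion.lift (piece α).ι h hrange
  have hh' : h' ≫ (piece α).ι = h := IsOpenImmersion.lift_fac _ _ _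
  have key : h' ≫ pieceMap α ≫ mult = q ≫ chart _ k₀ := by
    rw [pieceMap_mult, mloc, comp_ptS, chart_eq_ptS q]
    refine ptS_scale _ _ (ρ ((x i)⁻¹ * (a j)⁻¹)) (fun l => ?_) _ _ _ _
    rw [← ConcreteCategory.comp_apply, ← Scheme.Hom.comp_appTop, hh']
    exact hc l
  exact ⟨(h' ≫ pieceMap α) pt₀, by
    rw [← Scheme.Hom.comp_apply, Category.assoc, key, Scheme.Hom.comp_apply, hqy]⟩

end Groth.Agent.SymPow92
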